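import Mathlib

/-!
# Subgroups containing every derangement of a transitive action

If `D` contains every element of `G` fixing no point, then `D` is transitive, every element
outside `D` fixes exactly one point, and the index of `D` divides the size of every invariant
set of a point stabiliser that omits this point (Bailey, Cameron, Giudici, Royle).
-/

set_option autoImplicit false

open MulAction

namespace CfsgLib.Derangement

variable {G Ω : Type*} [Group G] [MulAction G Ω]

/-- Burnside's counting lemma in `Nat.card` form. -/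
theorem sum_fixedBy [Fintype G] [Finite Ω] :
    ∑ g : G, Nat.card (fixedBy Ω g) =
      Nat.card (orbitRel.Quotient G Ω) * Nat.card G := by
  classical
  cases nonempty_fintype Ω
  simp only [Nat.card_eq_fintype_card]
  convert sum_card_fixedBy_eq_card_orbits_mul_card_group G Ω

theorem card_quotient_eq_one [Nonempty Ω] [IsPretransitive G Ω] :
    Nat.card (orbitRel.Quotient G Ω) = 1 := by
  have : Subsingleton (orbitRel.Quotient G Ω) := by
    refine ⟨fun x y => ?_⟩
    induction x using Quotient.inductionOn' with | h a =>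
    induction y using Quotient.inductionOn' with | h b =>
    exact Quotient.sound' (exists_smul_eq G b a)
  have : Nonempty (orbitRel.Quotient G Ω) := ‹Nonempty Ω›.map Quotient.mk''
  exact Nat.card_unique

theorem sum_fixedBy_transitive [Fintype G] [Finite Ω] [Nonempty Ω] [IsPretransitive G Ω] :
    ∑ g : G, Nat.card (fixedBy Ω g) = Nat.card G := by
  rw [sum_fixedBy, card_quotient_eq_one, one_mul]

theorem fixedBy_card_pos_of_not_mem [Finite Ω] (D : Subgroup G)
    (hD : ∀ g : G, (∀ ω : Ω, g • ω ≠ ω) → g ∈ D) {g : G} (hg : g ∉ D) :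
    1 ≤ Nat.card (fixedBy Ω g) := by
  by_contra h
  refine hg (hD g fun ω hω => h ?_)
  have : Nonempty (fixedBy Ω g) := ⟨⟨ω, hω⟩⟩
  exact Nat.card_pos

theorem transitive_and_fix_eq_one [Finite G] [Finite Ω] [Nonempty Ω] [IsPretransitive G Ω]
    (D : Subgroup G) (hD : ∀ g : G, (∀ ω : Ω, g • ω ≠ ω) → g ∈ D) :
    IsPretransitive ↥D Ω ∧ ∀ g : G, g ∉ D → Nat.card (fixedBy Ω g) = 1 := by
  classical
  cases nonempty_fintype G
  set k := Nat.card (orbitRel.Quotient ↥D Ω) with hk
  have hk1 : 1 ≤ k := by
    have : Nonempty (orbitRel.Quotient ↥D Ω) := ‹Nonempty Ω›.map Quotient.mk''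
    exact Nat.card_pos
  have hsum := sum_fixedBy_transitive (G := G) (Ω := Ω)
  rw [← Finset.sum_filter_add_sum_filter_not Finset.univ (· ∈ D)] at hsum
  have h1 : ∑ g ∈ Finset.univ.filter (· ∈ D), Nat.card (fixedBy Ω g) = k * Nat.card D := by
    rw [hk, ← sum_fixedBy (G := ↥D) (Ω := Ω)]
    exact Finset.sum_subtype (p := (· ∈ D)) (Finset.univ.filter (· ∈ D)) (by simp) (fun g => Nat.card (fixedBy Ω g))
  have hcard : Nat.card D + (Finset.univ.filter (fun g : G => g ∉ D)).card = Nat.card G := by
    rw [Nat.card_eq_fintype_card, Nat.card_eq_fintype_card, Fintype.card_subtype]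
    exact Finset.card_filter_add_card_filter_not (s := (Finset.univ : Finset G)) (p := (· ∈ D))
  have hge : (Finset.univ.filter (fun g : G => g ∉ D)).card ≤
      ∑ g ∈ Finset.univ.filter (fun g : G => g ∉ D), Nat.card (fixedBy Ω g) := by
    rw [Finset.card_eq_sum_ones]
    exact Finset.sum_le_sum fun g hg =>
      fixedBy_card_pos_of_not_mem D hD (Finset.mem_filter.1 hg).2
  have hDpos : 0 < Nat.card D := Nat.card_pos
  have hk' : k = 1 := by
    by_contra hne
    have : 2 * Nat.card D ≤ k * Nat.card D := Nat.mul_le_mul_right _ (by omega)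
    omega
  constructor
  · have hsub : Subsingleton (orbitRel.Quotient ↥D Ω) :=
      (Nat.card_eq_one_iff_unique.1 (hk ▸ hk')).1
    refine ⟨fun a b => ?_⟩
    have h := Quotient.exact' (Subsingleton.elim
      (Quotient.mk'' b : orbitRel.Quotient ↥D Ω) (Quotient.mk'' a))
    exact mem_orbit_iff.1 h
  · intro g hg
    have heq : ∑ g ∈ Finset.univ.filter (fun g : G => g ∉ D), 1 =
        ∑ g ∈ Finset.univ.filter (fun g : G => g ∉ D), Nat.card (fixedBy Ω g) := by
      rw [← Finset.card_eq_sum_ones]
      rw [hk', one_mul] at h1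
      omega
    exact ((Finset.sum_eq_sum_iff_of_le fun x hx =>
      fixedBy_card_pos_of_not_mem D hD (Finset.mem_filter.1 hx).2).1 heq g (by simp [hg])).symm

theorem mem_of_fixes_two [Finite G] [Finite Ω] [Nonempty Ω] [IsPretransitive G Ω]
    (D : Subgroup G) (hD : ∀ g : G, (∀ ω : Ω, g • ω ≠ ω) → g ∈ D) {g : G} {a b : Ω}
    (hab : a ≠ b) (ha : g • a = a) (hb : g • b = b) : g ∈ D := by
  by_contra hg
  have h1 := (transitive_and_fix_eq_one D hD).2 g hg
  have := (Nat.card_eq_one_iff_unique.1 h1).1
  exact hab (congrArg Subtype.val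
    (Subsingleton.elim (⟨a, ha⟩ : fixedBy Ω g) ⟨b, hb⟩))

/-- Each orbit of `stabilizer G a` on the other points is `[G : D]` times an orbit of the
stabiliser in `D`. -/
theorem index_dvd_card_orbit [Finite G] [Finite Ω] [IsPretransitive G Ω]
    (D : Subgroup G) (hD : ∀ g : G, (∀ ω : Ω, g • ω ≠ ω) → g ∈ D) {a b : Ω} (hab : a ≠ b) :
    D.index ∣ Nat.card (orbit (stabilizer G a) b) := by
  have hne : Nonempty Ω := ⟨a⟩
  have htr := (transitive_and_fix_eq_one D hD).1
  rw [Nat.card_coe_set_eq, ← index_stabilizer]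
  have hle : stabilizer (stabilizer G a) b ≤ D.subgroupOf (stabilizer G a) := by
    intro g hg
    exact mem_of_fixes_two D hD hab g.2 hg
  have hi : (D.subgroupOf (stabilizer G a)).index = D.index := by
    have hsa : (stabilizer (↥D) a).index = Nat.card Ω := index_stabilizer_of_transitive _ _
    have hga : (stabilizer G a).index = Nat.card Ω := index_stabilizer_of_transitive _ _
    have heq : stabilizer (↥D) a = (stabilizer G a).subgroupOf D := rfl
    rw [heq] at hsa
    have e1 := Subgroup.relIndex_mul_index (inf_le_left : D ⊓ stabilizer G a ≤ D)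
    have e2 := Subgroup.relIndex_mul_index (inf_le_right : D ⊓ stabilizer G a ≤ stabilizer G a)
    rw [Subgroup.inf_relIndex_left] at e1
    rw [Subgroup.inf_relIndex_right] at e2
    change (stabilizer G a).relIndex D = Nat.card Ω at hsa
    change D.relIndex (stabilizer G a) = D.index
    rw [hsa, ← e2, hga, mul_comm] at e1
    exact (Nat.eq_of_mul_eq_mul_right (Nat.card_pos) e1).symm
  rw [← hi]
  exact Subgroup.index_dvd_of_le hle

theorem dvd_card_of_dvd_orbit {M X : Type*} [Group M] [MulAction M X] [Finite X] {i : ℕ}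
    (h : ∀ x : X, i ∣ Nat.card (orbit M x)) : i ∣ Nat.card X := by
  classical
  cases nonempty_fintype X
  rw [Nat.card_congr (selfEquivSigmaOrbits M X), Nat.card_sigma]
  exact Finset.dvd_sum fun ω _ => h _

/-- The index of `D` divides the size of a set invariant under the stabiliser of `a` that
does not contain `a`. -/
theorem index_dvd_card [Finite G] [Finite Ω] [IsPretransitive G Ω]
    (D : Subgroup G) (hD : ∀ g : G, (∀ ω : Ω, g • ω ≠ ω) → g ∈ D) (a : Ω)
    (S : SubMulAction (stabilizer G a) Ω) (ha : a ∉ S) : D.index ∣ Nat.card S := by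
  refine dvd_card_of_dvd_orbit (M := stabilizer G a) fun x => ?_
  have hne : a ≠ (x : Ω) := by
    intro h
    apply ha
    have h2 := x.2
    rw [← h] at h2
    exact h2
  refine (index_dvd_card_orbit D hD hne).trans (dvd_of_eq ?_)
  rw [← SubMulAction.val_image_orbit x, Nat.card_image_of_injective Subtype.val_injective]

theorem index_dvd_sub_one [Finite G] [Finite Ω] [Nonempty Ω] [IsPretransitive G Ω]
    (D : Subgroup G) (hD : ∀ g : G, (∀ ω : Ω, g • ω ≠ ω) → g ∈ D) :
    D.index ∣ Nat.card Ω - 1 := by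
  obtain ⟨a⟩ := ‹Nonempty Ω›
  have h := index_dvd_card D hD a (SubMulAction.ofStabilizer G a)
    (fun h => (SubMulAction.mem_ofStabilizer_iff G a).1 h rfl)
  rw [SubMulAction.nat_card_ofStabilizer_eq] at h
  exact h

/-- The subgroup generated by the derangements is normal. -/
theorem closure_normal (G Ω : Type*) [Group G] [MulAction G Ω] :
    (Subgroup.closure {g : G | ∀ ω : Ω, g • ω ≠ ω}).Normal := by
  refine ⟨fun n hn g => ?_⟩
  have h : (Subgroup.closure {g : G | ∀ ω : Ω, g • ω ≠ ω}).map (MulAut.conj g).toMonoidHom ≤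
      Subgroup.closure {g : G | ∀ ω : Ω, g • ω ≠ ω} := by
    rw [MonoidHom.map_closure]
    apply Subgroup.closure_mono
    rintro x ⟨y, hy, rfl⟩ ω hω
    apply hy (g⁻¹ • ω)
    simp only [MulEquiv.coe_toMonoidHom, MulAut.conj_apply, mul_smul] at hω
    conv_rhs => rw [← hω]
    simp
  exact h ⟨n, hn, rfl⟩

theorem mem_closure {g : G} (hg : ∀ ω : Ω, g • ω ≠ ω) :
    g ∈ Subgroup.closure {g : G | ∀ ω : Ω, g • ω ≠ ω} := Subgroup.subset_closure hg

/-- Jordan's theorem: a transitive group on at least two points has a derangement. -/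
theorem exists_derangement [Finite G] [Finite Ω] [IsPretransitive G Ω]
    (h : 2 ≤ Nat.card Ω) : ∃ g : G, ∀ ω : Ω, g • ω ≠ ω := by
  by_contra hno
  push Not at hno
  have hne : Nonempty Ω := (Finite.one_lt_card_iff_nontrivial.1 h).to_nonempty
  have htr := (transitive_and_fix_eq_one (Ω := Ω) (⊥ : Subgroup G)
    (fun g hg => absurd (hno g) (fun ⟨ω, hω⟩ => hg ω hω))).1
  have : Nontrivial Ω := Finite.one_lt_card_iff_nontrivial.1 h
  obtain ⟨a, b, hab⟩ := exists_pair_ne Ω
  obtain ⟨⟨g, hg⟩, hga⟩ := exists_smul_eq (⊥ : Subgroup G) a b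
  rw [Subgroup.mem_bot] at hg
  subst hg
  exact hab (by simpa using hga)

/-- No transitive action on at least two points is covered by point stabilisers: for a proper
subgroup some element lies in none of its conjugates. -/
theorem exists_not_conj_mem [Finite G] (K : Subgroup G) (hK : K ≠ ⊤) :
    ∃ g : G, ∀ x : G, x * g * x⁻¹ ∉ K := by
  have h2 : 2 ≤ Nat.card (G ⧸ K) := by
    have h1 : K.index ≠ 1 := mt Subgroup.index_eq_one.1 hK
    have h0 : K.index ≠ 0 := Subgroup.index_ne_zero_of_finite
    change 2 ≤ K.index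
    omega
  obtain ⟨g, hg⟩ := exists_derangement (G := G) (Ω := G ⧸ K) h2
  refine ⟨g, fun x hx => hg (x⁻¹ : G) ?_⟩
  rw [MulAction.Quotient.smul_coe, smul_eq_mul, QuotientGroup.eq]
  have := K.inv_mem hx
  simpa [mul_assoc] using this

end CfsgLib.Derangement
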