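import Cfsg.Agent.Derangement.UniformPartition
import Cfsg.Agent.SylvesterSchur.Basic
import Cfsg.Agent.Perm69.JordanPrime

/-!
# Elements of prime order avoiding the conjugates of a maximal subgroup

If `H` is a maximal subgroup of a group between the alternating and the symmetric group, not
containing the alternating group `A`, and `r` is the largest prime dividing the index of `H ⊓ A` in
`A`, then some element of order `r` of `A` has no conjugate in `H`.
-/

set_option autoImplicit false

namespace CfsgLib.AlternatingSocle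

open Equiv

variable {α : Type*} [Fintype α] [DecidableEq α]

local notation "A" => alternatingGroup α

theorem not_sq_dvd_factorial {r : ℕ} (hr : r.Prime) : ∀ {m : ℕ}, m < 2 * r → ¬ r ^ 2 ∣ m.factorial := by
  intro m
  induction m with
  | zero =>
    intro _ h
    rw [Nat.factorial_zero, Nat.dvd_one] at h
    exact hr.ne_one ((Nat.pow_eq_one.1 h).resolve_right two_ne_zero)
  | succ m ih =>
    intro hm h
    rw [Nat.factorial_succ] at h
    rcases eq_or_ne (m + 1) r with he | he
    · rw [he, pow_two] at h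
      have := hr.dvd_factorial.1 (Nat.dvd_of_mul_dvd_mul_left hr.pos h)
      omega
    · refine ih (by omega) ((Nat.Coprime.pow_left 2 ((hr.coprime_iff_not_dvd).2 ?_)).dvd_of_dvd_mul_left h)
      rintro ⟨c, hc⟩
      have hc2 : c < 2 := by
        by_contra hge
        have := Nat.mul_le_mul_left r (not_lt.1 hge)
        omega
      interval_cases c <;> omega

theorem two_mul_card (hm : 5 ≤ Fintype.card α) :
    2 * Nat.card (A : Subgroup (Perm α)) = (Fintype.card α).factorial := by
  haveI : Nontrivial α := Fintype.one_lt_card_iff_nontrivial.1 (by omega)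
  rw [two_mul_nat_card_alternatingGroup, Nat.card_perm, Nat.card_eq_fintype_card]

/-- A permutation of exponent `p` moving fewer than `p` points is trivial. -/
theorem eq_one_of_card_lt {β : Type*} [Fintype β] [DecidableEq β] {p : ℕ} (hp : p.Prime)
    {g : Perm β} (h : g ^ p = 1) (hlt : g.support.card < p) : g = 1 :=
  Perm.support_eq_empty_iff.1
    (Finset.card_eq_zero.1 (Nat.eq_zero_of_dvd_of_lt (UniformPartition.dvd_support hp h) hlt))

theorem mem_alternating_of_odd_order {g : Perm α} {r : ℕ} (hr : Odd r) (h : g ^ r = 1) : g ∈ A := by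
  rw [Perm.mem_alternatingGroup]
  have h1 := congrArg Perm.sign h
  rw [map_pow, map_one] at h1
  rcases Int.units_eq_one_or (Perm.sign g) with h2 | h2
  · exact h2
  · rw [h2, hr.neg_one_pow] at h1
    exact absurd h1 (by decide)

/-- A Sylow count: if `r` divides the index but `r ^ 2` does not divide the order, any element of
order `r` avoids `H`. -/
theorem avoid_of_not_sq {H : Subgroup (Perm α)} {d r : ℕ} (hr : r.Prime)
    (hd : d * Nat.card ↥(H ⊓ A) = Nat.card (A : Subgroup (Perm α))) (hrd : r ∣ d)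
    (hsq : ¬ r ^ 2 ∣ Nat.card (A : Subgroup (Perm α))) :
    ∃ g ∈ A, orderOf g = r ∧ ∀ t ∈ A, t * g * t⁻¹ ∉ H := by
  haveI := Fact.mk hr
  obtain ⟨g, hg⟩ := exists_prime_orderOf_dvd_card' r (G := (A : Subgroup (Perm α)))
    (hrd.trans ⟨_, hd.symm⟩)
  refine ⟨g, g.2, by rw [Subgroup.orderOf_coe]; exact hg, fun t ht h => hsq ?_⟩
  have hmem : t * (g : Perm α) * t⁻¹ ∈ H ⊓ A :=
    ⟨h, Subgroup.mul_mem _ (Subgroup.mul_mem _ ht g.2) (Subgroup.inv_mem _ ht)⟩
  have h1 := Subgroup.orderOf_coe (⟨_, hmem⟩ : ↥(H ⊓ A))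
  have h2 : orderOf (t * (g : Perm α) * t⁻¹) = r := by
    have h0 := MulEquiv.orderOf_eq (MulAut.conj t) (g : Perm α)
    rw [MulAut.conj_apply] at h0
    rw [h0, Subgroup.orderOf_coe, hg]
  have h3 : r ∣ Nat.card ↥(H ⊓ A) := h2 ▸ h1 ▸ orderOf_dvd_natCard _
  rw [← hd, pow_two]
  exact mul_dvd_mul hrd h3

/-- A transitive group with an element of prime order more than half the degree is primitive. -/
theorem isPreprimitive_of_large_prime {H : Subgroup (Perm α)} [MulAction.IsPretransitive H α]
    {p : ℕ} (hp : p.Prime) (hpm : Fintype.card α < 2 * p) {g : Perm α} (hgH : g ∈ H)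
    (hg : orderOf g = p) : MulAction.IsPreprimitive H α := by
  classical
  open scoped Pointwise in
  refine { isTrivialBlock_of_isBlock := fun {B} hB => ?_ }
  by_contra hnt
  rw [MulAction.IsTrivialBlock, not_or] at hnt
  obtain ⟨hsub, hne⟩ := hnt
  rw [Set.not_subsingleton_iff] at hsub
  have hB1 : 2 ≤ B.ncard := by
    rw [Nat.succ_le_iff, Set.one_lt_ncard_iff_nontrivial]
    exact hsub
  have hcard := hB.ncard_block_mul_ncard_orbit_eq hsub.nonempty
  rw [Nat.card_eq_fintype_card] at hcard
  have hO2 : 2 ≤ (MulAction.orbit H B).ncard := by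
    by_contra hlt
    have hBm : B.ncard < Nat.card α := by
      rw [← Set.ncard_univ]
      exact Set.ncard_lt_ncard (Set.ssubset_univ_iff.2 hne)
    rw [Nat.card_eq_fintype_card] at hBm
    have := Nat.mul_le_mul_left B.ncard (show (MulAction.orbit H B).ncard ≤ 1 by omega)
    omega
  have hBp : B.ncard < p := by
    have := Nat.mul_le_mul_left B.ncard hO2
    omega
  have hOp : (MulAction.orbit H B).ncard < p := by
    have := Nat.mul_le_mul_right (MulAction.orbit H B).ncard hB1
    omega
  let g' : H := ⟨g, hgH⟩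
  have hg' : g' ^ p = 1 := Subtype.ext (by rw [← hg]; exact pow_orderOf_eq_one g)
  -- every translate of the block is fixed
  haveI : Fintype (MulAction.orbit H B) := Fintype.ofFinite _
  have hfix : MulAction.toPermHom H (MulAction.orbit H B) g' = 1 := by
    refine eq_one_of_card_lt hp (by rw [← map_pow, hg', map_one]) ?_
    refine lt_of_le_of_lt (Finset.card_le_univ _) ?_
    rwa [← Nat.card_eq_fintype_card, Nat.card_coe_set_eq]
  have hg1 : g ≠ 1 := fun h => hp.one_lt.ne (by rw [← hg, h, orderOf_one])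
  apply hg1
  refine Equiv.ext fun x => ?_
  obtain ⟨h₀, hh₀⟩ := MulAction.exists_smul_eq H hsub.nonempty.some x
  set C : Set α := h₀ • B with hC
  have hxC : x ∈ C := hh₀ ▸ Set.smul_mem_smul_set hsub.nonempty.some_mem
  have hgC : g' • C = C := by
    have := Perm.ext_iff.1 hfix ⟨C, ⟨h₀, rfl⟩⟩
    exact congrArg Subtype.val this
  have hp' : ∀ y, g y ∈ C ↔ y ∈ C := fun y => by
    conv_lhs => rw [← hgC]
    exact Set.smul_mem_smul_set_iff
  haveI : Fintype {y // y ∈ C} := Fintype.ofFinite _
  have hgp : g ^ p = 1 := hg ▸ pow_orderOf_eq_one g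
  have h1 : g.subtypePerm hp' = 1 := by
    refine eq_one_of_card_lt hp ?_ ?_
    · rw [Perm.subtypePerm_pow]
      refine Equiv.ext fun y => Subtype.ext ?_
      simp [hgp]
    · refine lt_of_le_of_lt (Finset.card_le_univ _) ?_
      rw [← Nat.card_eq_fintype_card]
      calc Nat.card {y // y ∈ C} = C.ncard := Nat.card_coe_set_eq C
        _ = B.ncard := Set.ncard_smul_set _ _
        _ < p := hBp
  exact congrArg Subtype.val (Perm.ext_iff.1 h1 ⟨x, hxC⟩)

/-- An element with `m / r` cycles of length `r`, in the alternating group. -/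
theorem exists_many_cycles {r k : ℕ} (hr : r.Prime) (hkr : k < r) (hrm : r ≤ Fintype.card α)
    (hmod : Fintype.card α % r < k) (hpar : r = 2 → 4 ∣ Fintype.card α) :
    ∃ g ∈ A, orderOf g = r ∧ ∀ S : Finset α, S.card = k → ¬ ∀ x ∈ S, g x ∈ S := by
  haveI := Fact.mk hr
  set t := Fintype.card α / r with ht
  have ht1 : 1 ≤ t := (Nat.one_le_div_iff hr.pos).2 hrm
  obtain ⟨g₀, hg₀, hc₀⟩ := UniformPartition.exists_perm (n := Fintype.card α) hr.two_le
    (Nat.mul_div_le (Fintype.card α) r)
  let e : Fin (Fintype.card α) ≃ α := (Fintype.equivFin α).symm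
  set g : Perm α := e.permCongr g₀ with hg
  have hgr : g ^ r = 1 := by
    rw [hg, ← Equiv.permCongrHom_coe, ← map_pow, hg₀, map_one]
  have hgc : g.support.card = r * t := by
    rw [← hc₀, ← Finset.card_map e.toEmbedding]
    congr 1
    ext x
    rw [Perm.mem_support, Finset.mem_map_equiv, Perm.mem_support, hg, Equiv.permCongr_apply]
    exact not_congr (e.apply_eq_iff_eq_symm_apply (x := g₀ (e.symm x)))
  have hord : orderOf g = r := orderOf_eq_prime hgr fun h => by
    rw [h, Perm.support_one, Finset.card_empty] at hgc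
    exact (Nat.mul_pos hr.pos ht1).ne hgc
  refine ⟨g, ?_, hord, fun S hS hinv => ?_⟩
  · rcases hr.eq_two_or_odd' with rfl | hodd
    · rw [Perm.mem_alternatingGroup, Perm.sign_of_cycleType, Perm.cycleType_of_pow_prime_eq_one hgr]
      have hcard : g.cycleType.card * 2 = 2 * t := by
        have h1 := Perm.sum_cycleType g
        rw [Perm.cycleType_of_pow_prime_eq_one hgr, Multiset.sum_replicate, smul_eq_mul, hgc] at h1
        exact h1
      rw [Multiset.sum_replicate, Multiset.card_replicate, smul_eq_mul]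
      obtain ⟨c, hc⟩ := hpar rfl
      exact Even.neg_one_pow ⟨3 * c, by omega⟩
    · exact mem_alternating_of_odd_order hodd hgr
  · -- an invariant `k`-set consists of fixed points, of which there are too few
    have hp' : ∀ y, g y ∈ S ↔ y ∈ S := fun y => by
      refine ⟨fun h => ?_, fun h => hinv y h⟩
      have hpow : ∀ n : ℕ, ∀ z ∈ S, (g ^ n) z ∈ S := by
        intro n
        induction n with
        | zero => exact fun z hz => hz
        | succ n ih => exact fun z hz => by rw [pow_succ, Perm.mul_apply]; exact ih _ (hinv z hz)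
      have h2 := hpow (r - 1) _ h
      rw [← Perm.mul_apply, ← pow_succ, Nat.sub_add_cancel hr.pos, hgr] at h2
      exact h2
    have h1 : g.subtypePerm hp' = 1 := by
      refine eq_one_of_card_lt hr ?_ (lt_of_le_of_lt (Finset.card_le_univ _) (by simpa [hS] using hkr))
      rw [Perm.subtypePerm_pow]
      refine Equiv.ext fun y => Subtype.ext ?_
      simp [hgr]
    have hsub : S ⊆ g.supportᶜ := fun x hx => by
      rw [Finset.mem_compl, Perm.notMem_support]
      exact congrArg Subtype.val (Perm.ext_iff.1 h1 ⟨x, hx⟩)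
    have h2 := Finset.card_le_card hsub
    rw [Finset.card_compl, hgc, hS] at h2
    have := Nat.div_add_mod (Fintype.card α) r
    rw [← ht] at this
    omega

theorem not_dvd_choose {r k m : ℕ} (hr : r.Prime) (hkr : k < r) (hkm : k ≤ m) (hmod : k ≤ m % r) :
    ¬ r ∣ m.choose k := by
  intro h
  have h1 : r ∣ m.descFactorial k := by
    rw [Nat.descFactorial_eq_factorial_mul_choose]
    exact h.mul_left _
  rw [Nat.descFactorial_eq_prod_range] at h1
  obtain ⟨i, hi, hdvd⟩ := (hr.prime.dvd_finsetProd_iff _).1 h1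
  rw [Finset.mem_range] at hi
  obtain ⟨c, hc⟩ := hdvd
  have h2 : m % r = i % r := by
    rw [show m = i + r * c by omega, Nat.add_mul_mod_self_left]
  rw [Nat.mod_eq_of_lt (show i < r by omega)] at h2
  omega

open scoped Pointwise in
/-- The alternating group is transitive on finite sets of a given size. -/
theorem exists_alternating_smul {S S' : Finset α} (hS : S.card = S'.card)
    (hc : 2 ≤ Sᶜ.card) : ∃ t ∈ A, t • S = S' := by
  classical
  obtain ⟨a, ha, b, hb, hab⟩ := Finset.one_lt_card.1 hc
  let e : {x // x ∈ S} ≃ {x // x ∈ S'} := Fintype.equivOfCardEq (by simpa using hS)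
  let σ : Perm α := e.extendSubtype
  have hσ : ∀ x ∈ S, σ x ∈ S' := fun x hx => e.extendSubtype_mem x hx
  have key : ∀ τ : Perm α, (∀ x ∈ S, τ x ∈ S') → τ • S = S' := fun τ hτ => by
    refine Finset.eq_of_subset_of_card_le (fun y hy => ?_) (by rw [Finset.card_smul_finset, hS])
    obtain ⟨x, hx, rfl⟩ := Finset.mem_smul_finset.1 hy
    exact hτ x hx
  rcases Int.units_eq_one_or (Perm.sign σ) with h | h
  · exact ⟨σ, Perm.mem_alternatingGroup.2 h, key σ hσ⟩
  · refine ⟨σ * swap a b, Perm.mem_alternatingGroup.2 ?_, key _ fun x hx => ?_⟩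
    · rw [map_mul, h, Perm.sign_swap hab]; rfl
    · rw [Perm.mul_apply, swap_apply_of_ne_of_ne (fun h => Finset.mem_compl.1 ha (by rw [← h]; exact hx))
        (fun h => Finset.mem_compl.1 hb (by rw [← h]; exact hx))]
      exact hσ x hx

open scoped Pointwise in
/-- The intransitive case. -/
theorem avoid_of_stabilizer (hm : 5 ≤ Fintype.card α) {H : Subgroup (Perm α)} {d r : ℕ}
    {S : Finset α} (hS0 : 0 < S.card) (hS2 : 2 * S.card ≤ Fintype.card α)
    (hH : H ≤ MulAction.stabilizer (Perm α) S) (hA : MulAction.stabilizer (Perm α) S ⊓ A ≤ H)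
    (hd : d * Nat.card ↥(H ⊓ A) = Nat.card (A : Subgroup (Perm α))) (hr : r.Prime) (hrd : r ∣ d)
    (hmax : ∀ s : ℕ, s.Prime → s ∣ d → s ≤ r) :
    ∃ g ∈ A, orderOf g = r ∧ ∀ t ∈ A, t * g * t⁻¹ ∉ H := by
  classical
  set k := S.card with hk
  set m := Fintype.card α with hmdef
  have hHA : H ⊓ A = MulAction.stabilizer (Perm α) S ⊓ A :=
    le_antisymm (inf_le_inf_right _ hH) (le_inf hA inf_le_right)
  -- the index is the number of `k`-sets
  have hdval : d = m.choose k := by
    have hst : (MulAction.stabilizer (Perm α) S).subgroupOf A = MulAction.stabilizer A S := rfl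
    have h1 := (MulAction.stabilizer A S).card_mul_index
    have hc : Nat.card (MulAction.stabilizer A S) = Nat.card ↥(MulAction.stabilizer (Perm α) S ⊓ A) := by
      rw [← hst, ← Subgroup.inf_subgroupOf_right]
      exact Nat.card_congr (Subgroup.subgroupOfEquivOfLe inf_le_right).toEquiv
    rw [MulAction.index_stabilizer, hc] at h1
    have h2 : MulAction.orbit A S = ↑(Finset.univ.powersetCard k : Finset (Finset α)) := by
      ext S'
      rw [Finset.mem_coe, Finset.mem_powersetCard]
      constructor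
      · rintro ⟨t, rfl⟩
        exact ⟨Finset.subset_univ _, Finset.card_smul_finset (t : Perm α) S⟩
      · rintro ⟨-, h⟩
        obtain ⟨t, ht, hts⟩ := exists_alternating_smul (S := S) h.symm (by rw [Finset.card_compl]; omega)
        exact ⟨⟨t, ht⟩, hts⟩
    rw [h2, Set.ncard_coe_finset, Finset.card_powersetCard,
      Finset.card_univ, ← hd, hHA] at h1
    have hpos : 0 < Nat.card ↥(MulAction.stabilizer (Perm α) S ⊓ A) := Nat.card_pos
    exact (Nat.eq_of_mul_eq_mul_right hpos (by rw [mul_comm] at h1; linarith)).symm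
  obtain ⟨p, hp, hkp, hpd⟩ := SylvesterSchur.exists_prime_gt_dvd_choose hS0 hS2
  have hkr : k < r := hkp.trans_le (hmax p hp (hdval ▸ hpd))
  rw [hdval] at hrd
  have hmod : m % r < k := not_le.1 fun h => not_dvd_choose hr hkr (by omega) h hrd
  have hrm : r ≤ m := hr.dvd_factorial.1 <| hrd.trans
    ⟨k.factorial * (m - k).factorial, by rw [← mul_assoc, Nat.choose_mul_factorial_mul_factorial (by omega)]⟩
  have hpar : r = 2 → 4 ∣ m := by
    rintro rfl
    have hk1 : k = 1 := by omega
    rw [hk1, Nat.choose_one_right] at hrd hdval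
    obtain ⟨c, hc⟩ := hrd
    by_contra h4
    have hcodd : ¬ 2 ∣ c := fun ⟨e, he⟩ => h4 ⟨e, by omega⟩
    obtain ⟨q, hq, hqc⟩ := Nat.exists_prime_and_dvd (show c ≠ 1 by omega)
    have := hmax q hq (hdval ▸ hc ▸ hqc.mul_left 2)
    have := hq.two_le
    exact hcodd ((show q = 2 by omega) ▸ hqc)
  obtain ⟨g, hgA, hg, hinv⟩ := exists_many_cycles hr hkr hrm hmod hpar
  refine ⟨g, hgA, hg, fun t _ ht => hinv (t⁻¹ • S) (Finset.card_smul_finset t⁻¹ S) fun x hx => ?_⟩
  have h1 : (t * g * t⁻¹) • S = S := hH ht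
  obtain ⟨y, hy, rfl⟩ := Finset.mem_smul_finset.1 hx
  refine Finset.mem_smul_finset.2 ⟨(t * g * t⁻¹) y, ?_, ?_⟩
  · exact h1 ▸ Finset.smul_mem_smul_finset hy
  · simp only [Perm.smul_def, Perm.mul_apply]
    rw [← Perm.mul_apply t⁻¹ t, inv_mul_cancel]
    rfl

open scoped Pointwise in
/-- An element of order `r` of `A` without a conjugate in the maximal subgroup `H`. -/
theorem exists_avoid (hm : 5 ≤ Fintype.card α) {G' H : Subgroup (Perm α)} (hA : A ≤ G')
    (hHG : H ≤ G') (hco : ∀ L, H ≤ L → L ≤ G' → L = H ∨ L = G') (hAH : ¬ A ≤ H) {d r : ℕ}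
    (hd : d * Nat.card ↥(H ⊓ A) = Nat.card (A : Subgroup (Perm α))) (hr : r.Prime) (hrd : r ∣ d)
    (hmax : ∀ s : ℕ, s.Prime → s ∣ d → s ≤ r) :
    ∃ g ∈ A, orderOf g = r ∧ ∀ t ∈ A, t * g * t⁻¹ ∉ H := by
  classical
  set m := Fintype.card α with hmdef
  have h2A := two_mul_card (α := α) hm
  have hsq : m < 2 * r → ¬ r ^ 2 ∣ Nat.card (A : Subgroup (Perm α)) := fun h h' =>
    not_sq_dvd_factorial hr h (h2A ▸ h'.mul_left 2)
  by_cases htrans : MulAction.IsPretransitive H α
  swap
  · obtain ⟨a, b, hab⟩ : ∃ a b : α, ∀ h : H, h • a ≠ b := by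
      by_contra! hall
      exact htrans ⟨fun a b => hall a b⟩
    have key : ∀ S : Finset α, H ≤ MulAction.stabilizer (Perm α) S → ∀ x ∈ S, ∀ y ∉ S,
        MulAction.stabilizer (Perm α) S ⊓ A ≤ H := by
      intro S hS x hx y hy
      rcases hco (MulAction.stabilizer (Perm α) S ⊓ G') (le_inf hS hHG) inf_le_right with h | h
      · exact (inf_le_inf_left _ hA).trans h.le
      · exfalso
        have hxy : x ≠ y := fun h => hy (h ▸ hx)
        obtain ⟨z, hz⟩ : ∃ z, z ∉ ({x, y} : Finset α) := by
          by_contra! hall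
          have := Finset.card_le_card (fun z _ => hall z : (Finset.univ : Finset α) ⊆ {x, y})
          rw [Finset.card_univ, Finset.card_pair hxy] at this
          omega
        rw [Finset.mem_insert, Finset.mem_singleton, not_or] at hz
        have hcyc : swap x y * swap x z ∈ A := by
          rw [Perm.mem_alternatingGroup, map_mul, Perm.sign_swap hxy, Perm.sign_swap (Ne.symm hz.1)]
          rfl
        have hmem : swap x y * swap x z ∈ MulAction.stabilizer (Perm α) S := by
          have := hA hcyc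
          rw [← h] at this
          exact this.1
        by_cases hzS : z ∈ S
        · -- `z ↦ x ↦ y`
          have h1 : (swap x y * swap x z) • z ∈ (swap x y * swap x z) • S :=
            Finset.smul_mem_smul_finset hzS
          rw [hmem, Perm.smul_def, Perm.mul_apply, swap_apply_right, swap_apply_left] at h1
          exact hy h1
        · -- `x ↦ z`
          have h1 : (swap x y * swap x z) • x ∈ (swap x y * swap x z) • S :=
            Finset.smul_mem_smul_finset hx
          rw [hmem, Perm.smul_def, Perm.mul_apply, swap_apply_left, swap_apply_of_ne_of_ne hz.1 hz.2] at h1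
          exact hzS h1
    set S₀ : Finset α := (MulAction.orbit H a).toFinset with hS₀
    have hmemS : ∀ x, x ∈ S₀ ↔ x ∈ MulAction.orbit H a := fun x => Set.mem_toFinset
    have hHS : ∀ S : Finset α, S = S₀ ∨ S = S₀ᶜ → H ≤ MulAction.stabilizer (Perm α) S := by
      intro S hS h hh
      have h0 : ∀ x, h x ∈ S₀ ↔ x ∈ S₀ := fun x => by
        rw [hmemS, hmemS, ← MulAction.orbit_eq_iff, ← MulAction.orbit_eq_iff]
        exact ⟨fun e => (MulAction.orbit_smul (⟨h, hh⟩ : H) x).symm.trans e,
          fun e => (MulAction.orbit_smul (⟨h, hh⟩ : H) x).trans e⟩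
      have hx : ∀ x ∈ S, h x ∈ S := by
        rcases hS with rfl | rfl
        · exact fun x hx => (h0 x).2 hx
        · exact fun x hx => Finset.mem_compl.2 fun h' => Finset.mem_compl.1 hx ((h0 x).1 h')
      rw [MulAction.mem_stabilizer_iff]
      refine Finset.eq_of_subset_of_card_le (fun y hy => ?_) (Finset.card_smul_finset h S).ge
      obtain ⟨x, hxS, rfl⟩ := Finset.mem_smul_finset.1 hy
      exact hx x hxS
    have ha : a ∈ S₀ := (hmemS a).2 (MulAction.mem_orbit_self a)
    have hb : b ∉ S₀ := fun h => by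
      obtain ⟨g, hg⟩ := (hmemS b).1 h
      exact hab g hg
    have hc : S₀.card + S₀ᶜ.card = m := Finset.card_add_card_compl S₀
    rcases le_total S₀.card S₀ᶜ.card with hle | hle
    · exact avoid_of_stabilizer hm (Finset.card_pos.2 ⟨a, ha⟩) (by omega) (hHS _ (Or.inl rfl))
        (key _ (hHS _ (Or.inl rfl)) a ha b hb) hd hr hrd hmax
    · exact avoid_of_stabilizer hm (Finset.card_pos.2 ⟨b, Finset.mem_compl.2 hb⟩) (by omega)
        (hHS _ (Or.inr rfl))
        (key _ (hHS _ (Or.inr rfl)) b (Finset.mem_compl.2 hb) a (fun h => Finset.mem_compl.1 h ha))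
        hd hr hrd hmax
  by_cases hprim : MulAction.IsPreprimitive H α
  swap
  · obtain ⟨p, hp, hp1, hp2⟩ := Nat.exists_prime_lt_and_le_two_mul (m / 2) (by omega)
    have hpm : m < 2 * p := by omega
    have hpA : p ∣ Nat.card (A : Subgroup (Perm α)) := by
      have h : p ∣ 2 * Nat.card (A : Subgroup (Perm α)) := h2A ▸ hp.dvd_factorial.2 (by omega)
      exact (hp.dvd_mul.1 h).resolve_left fun h2 => by
        have := Nat.le_of_dvd two_pos h2
        omega
    have hpd : p ∣ d := by
      rcases hp.dvd_mul.1 (hd.symm ▸ hpA : p ∣ d * Nat.card ↥(H ⊓ A)) with h | h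
      · exact h
      · exfalso
        haveI := Fact.mk hp
        obtain ⟨g, hg⟩ := exists_prime_orderOf_dvd_card' p h
        exact hprim (isPreprimitive_of_large_prime hp hpm g.2.1
          (by rw [Subgroup.orderOf_coe]; exact hg))
    exact avoid_of_not_sq hr hd hrd (hsq (lt_of_lt_of_le hpm (Nat.mul_le_mul_left 2 (hmax p hp hpd))))
  -- primitive case
  have hr2 : r ≠ 2 := by
    rintro rfl
    apply hAH
    haveI : Fact (Nat.Prime 3) := ⟨Nat.prime_three⟩
    have h3d : ¬ 3 ∣ d := fun h => by
      have := hmax 3 Nat.prime_three h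
      omega
    set K := H.subgroupOf A with hK
    have hKc : Nat.card K = Nat.card ↥(H ⊓ A) := by
      rw [hK, ← Subgroup.inf_subgroupOf_right]
      exact Nat.card_congr (Subgroup.subgroupOfEquivOfLe inf_le_right).toEquiv
    obtain ⟨Q⟩ : Nonempty (Sylow 3 K) := inferInstance
    have hQ : Nat.card ((Q : Subgroup K).map K.subtype) =
        3 ^ (Nat.card (A : Subgroup (Perm α))).factorization 3 := by
      rw [Subgroup.card_map_of_injective K.subtype_injective, Q.card_eq_multiplicity, hKc, ← hd,
        Nat.factorization_mul (by rintro rfl; rw [zero_mul] at hd; exact Nat.card_pos.ne hd)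
          Nat.card_pos.ne']
      simp [Nat.factorization_eq_zero_of_not_dvd h3d]
    let P : Sylow 3 (A : Subgroup (Perm α)) := Sylow.ofCard _ hQ
    obtain ⟨a, b, c, hab, hac, hbc⟩ := Fintype.two_lt_card_iff.1 (show 2 < m by omega)
    have hcyc : (swap a b * swap a c).IsThreeCycle :=
      Perm.isThreeCycle_swap_mul_swap_same hab hac hbc
    set x : (A : Subgroup (Perm α)) := ⟨_, hcyc.mem_alternatingGroup⟩
    obtain ⟨P', hP'⟩ := (IsPGroup.of_card (n := 1) (p := 3) (by
      rw [Nat.card_zpowers, pow_one, ← Subgroup.orderOf_coe]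
      exact hcyc.orderOf : Nat.card (Subgroup.zpowers x) = 3 ^ 1)).exists_le_sylow
    obtain ⟨u, hu⟩ := MulAction.exists_smul_eq (A : Subgroup (Perm α)) P' P
    have hx : u * x * u⁻¹ ∈ (P : Subgroup (A : Subgroup (Perm α))) := by
      rw [← hu]
      exact ⟨x, hP' (Subgroup.mem_zpowers x), rfl⟩
    obtain ⟨y, -, hy⟩ := hx
    have hH3 : ((u * x * u⁻¹ : (A : Subgroup (Perm α))) : Perm α) ∈ H := by
      rw [← hy]
      exact Subgroup.mem_subgroupOf.1 y.2
    refine Equiv.Perm.alternatingGroup_le_of_isPreprimitive_of_isThreeCycle_mem hprim ?_ hH3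
    change ((u : Perm α) * (swap a b * swap a c) * (u : Perm α)⁻¹).IsThreeCycle
    rw [Perm.IsThreeCycle, Perm.cycleType_conj]
    exact hcyc
  rcases lt_or_ge m (2 * r) with h | h
  · exact avoid_of_not_sq hr hd hrd (hsq h)
  have hodd : Odd r := hr.odd_of_ne_two hr2
  haveI := Fact.mk hr
  obtain ⟨g, hgr, hgc⟩ := UniformPartition.exists_perm (n := m) hr.two_le (j := 1) (by omega)
  let e : Fin m ≃ α := (Fintype.equivFin α).symm
  set g' : Perm α := e.permCongr g with hg'
  have hg'r : g' ^ r = 1 := by rw [hg', ← Equiv.permCongrHom_coe, ← map_pow, hgr, map_one]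
  have hg'c : g'.support.card = r := by
    rw [show r = r * 1 by ring, ← hgc, ← Finset.card_map e.toEmbedding]
    congr 1
    ext x
    rw [Perm.mem_support, Finset.mem_map_equiv, Perm.mem_support, hg', Equiv.permCongr_apply]
    exact not_congr (e.apply_eq_iff_eq_symm_apply (x := g (e.symm x)))
  have hord : orderOf g' = r := orderOf_eq_prime hg'r fun h => by
    rw [h, Perm.support_one, Finset.card_empty] at hg'c
    exact hr.ne_zero hg'c.symm
  have hcyc : g'.IsCycle := Perm.isCycle_of_prime_order (hord.symm ▸ hr)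
    (by rw [hg'c, hord]; exact lt_two_mul_self hr.pos)
  refine ⟨g', mem_alternating_of_odd_order hodd hg'r, hord, fun t ht hmem => hAH ?_⟩
  exact JordanPrime.alternatingGroup_le_of_prime_cycle hprim hr
    (by have := hr.two_le; omega) hcyc.conj (by rw [Perm.card_support_conj, hg'c]) hmem

end CfsgLib.AlternatingSocle
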