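import Mathlib

/-!
# Elements of prime order avoiding a subgroup of the alternating group of degree six
-/

set_option autoImplicit false

namespace CfsgLib.DegreeSix

open Equiv

local notation "A6" => alternatingGroup (Fin 6)

theorem card_A6 : Nat.card A6 = 360 := by
  rw [nat_card_alternatingGroup, Nat.card_fin]
  rfl

/-- No element of order fifteen. -/
theorem orderOf_ne_fifteen (σ : Perm (Fin 6)) : orderOf σ ≠ 15 := by
  intro h
  have hmem : ∀ c ∈ σ.cycleType, c = 3 ∨ c = 5 := fun c hc => by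
    have h1 : c ∣ 15 := h ▸ Perm.dvd_of_mem_cycleType hc
    have h2 := Perm.two_le_of_mem_cycleType hc
    have h3 : c ≤ 6 := (Multiset.le_sum_of_mem hc).trans (by simpa using σ.sum_cycleType_le)
    interval_cases c <;> omega
  have hlcm : ∀ n, (∀ c ∈ σ.cycleType, c ∣ n) → 15 ∣ n := fun n hn =>
    h ▸ σ.lcm_cycleType ▸ Multiset.lcm_dvd.2 hn
  have h3 : 3 ∈ σ.cycleType := by
    by_contra h3
    have := hlcm 5 fun c hc => by rcases hmem c hc with rfl | rfl; exacts [absurd hc h3, dvd_rfl]
    omega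
  have h5 : 5 ∈ σ.cycleType := by
    by_contra h5
    have := hlcm 3 fun c hc => by rcases hmem c hc with rfl | rfl; exacts [dvd_rfl, absurd hc h5]
    omega
  obtain ⟨t, ht⟩ := Multiset.exists_cons_of_mem h3
  rw [ht, Multiset.mem_cons] at h5
  have h6 := Multiset.le_sum_of_mem (h5.resolve_left (by norm_num))
  have h7 := σ.sum_cycleType_le
  rw [ht, Multiset.sum_cons, Fintype.card_fin] at h7
  omega

/-- A group of order forty-five has an element of order fifteen. -/
theorem exists_fifteen {K : Type*} [Group K] [Finite K] (h : Nat.card K = 45) :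
    ∃ g : K, orderOf g = 15 := by
  haveI : Fact (Nat.Prime 5) := ⟨Nat.prime_five⟩
  haveI : Fact (Nat.Prime 3) := ⟨Nat.prime_three⟩
  obtain ⟨P⟩ : Nonempty (Sylow 5 K) := inferInstance
  have hPc : Nat.card (P : Subgroup K) = 5 := by
    rw [P.card_eq_multiplicity, h, show (45 : ℕ).factorization 5 = 1 by
      rw [show (45 : ℕ) = 5 * 9 from rfl, Nat.factorization_mul (by norm_num) (by norm_num),
        Finsupp.add_apply, Nat.Prime.factorization_self Nat.prime_five,
        Nat.factorization_eq_zero_of_not_dvd (by norm_num : ¬ 5 ∣ 9)]]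
    rfl
  have hdvd : Nat.card (Sylow 5 K) ∣ 9 := by
    have h1 := P.card_dvd_index
    have h2 := (P : Subgroup K).card_mul_index
    rw [hPc, h] at h2
    rwa [show (P : Subgroup K).index = 9 by omega] at h1
  have hone : Nat.card (Sylow 5 K) = 1 := by
    have h1 := card_sylow_modEq_one 5 K
    have h2 := Nat.le_of_dvd (by norm_num) hdvd
    unfold Nat.ModEq at h1
    set n := Nat.card (Sylow 5 K)
    interval_cases n <;> omega
  haveI : Subsingleton (Sylow 5 K) := (Nat.card_eq_one_iff_unique.1 hone).1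
  haveI : (P : Subgroup K).Normal := P.normal_of_subsingleton
  obtain ⟨x, hx⟩ := exists_prime_orderOf_dvd_card' 3 (G := K) (h ▸ by norm_num)
  haveI : IsCyclic (P : Subgroup K) := isCyclic_of_prime_card hPc
  obtain ⟨y, hy⟩ := IsCyclic.exists_ofOrder_eq_natCard (α := (P : Subgroup K))
  -- `x` centralises `P`
  have hc : MulAut.conjNormal (H := (P : Subgroup K)) x = 1 := by
    rw [← orderOf_eq_one_iff]
    have h1 : orderOf (MulAut.conjNormal (H := (P : Subgroup K)) x) ∣ 3 := hx ▸ orderOf_map_dvd _ x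
    have h2 : orderOf (MulAut.conjNormal (H := (P : Subgroup K)) x) ∣ 4 := by
      have := orderOf_dvd_natCard (MulAut.conjNormal (H := (P : Subgroup K)) x)
      rwa [IsCyclic.card_mulAut, hPc, Nat.totient_prime Nat.prime_five] at this
    exact Nat.eq_one_of_dvd_coprimes (by norm_num : Nat.Coprime 3 4) h1 h2
  refine ⟨x * (y : K), ?_⟩
  have hcomm : Commute x (y : K) := by
    have h1 := congrArg (fun φ : MulAut (P : Subgroup K) => ((φ y : (P : Subgroup K)) : K)) hc
    simp only [MulAut.conjNormal_apply, MulAut.one_apply] at h1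
    exact mul_inv_eq_iff_eq_mul.1 h1
  rw [hcomm.orderOf_mul_eq_mul_orderOf_of_coprime
    (by rw [hx, Subgroup.orderOf_coe, hy, hPc]; norm_num), hx, Subgroup.orderOf_coe, hy, hPc]

/-- A product of two disjoint three-cycles. -/
def dbl : Perm (Fin 6) := swap 0 1 * swap 0 2 * (swap 3 4 * swap 3 5)

theorem dbl_mem : dbl ∈ A6 := Perm.mem_alternatingGroup.2 (by decide)

theorem dbl_pow_three : dbl ^ 3 = 1 := by decide

theorem dbl_ne_one : dbl ≠ 1 := by decide

theorem dbl_pow_cycleType (n : ℕ) : (dbl ^ n).cycleType ≠ {3} := by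
  intro h
  have hsum := Perm.sum_cycleType (dbl ^ n)
  rw [h, Multiset.sum_singleton, pow_eq_pow_mod n dbl_pow_three] at hsum
  have key : ∀ i : Fin 3, 3 ≠ (dbl ^ (i : ℕ)).support.card := by decide
  exact key ⟨n % 3, Nat.mod_lt _ (by norm_num)⟩ hsum

/-- A proper subgroup misses the conjugates of some element of order `r`. -/
theorem exists_avoid (K : Subgroup A6) (hK : K ≠ ⊤) {r : ℕ} (hr : r.Prime) (hrd : r ∣ K.index)
    (hmax : ∀ s : ℕ, s.Prime → s ∣ K.index → s ≤ r) :
    ∃ g : A6, orderOf g = r ∧ ∀ t : A6, t * g * t⁻¹ ∉ K := by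
  classical
  haveI := Fact.mk hr
  have hcard := K.card_mul_index
  rw [card_A6] at hcard
  have hdvdA : r ∣ Nat.card A6 := hrd.trans K.index_dvd_card
  -- Cauchy suffices when `r` does not divide `|K|`
  have hcauchy : ¬ r ∣ Nat.card K → ∃ g : A6, orderOf g = r ∧ ∀ t : A6, t * g * t⁻¹ ∉ K := by
    intro hnd
    obtain ⟨g, hg⟩ := exists_prime_orderOf_dvd_card' r (G := A6) hdvdA
    refine ⟨g, hg, fun t ht => hnd ?_⟩
    have h1 := orderOf_dvd_natCard (⟨_, ht⟩ : K)
    have h2 := MulEquiv.orderOf_eq (MulAut.conj t) g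
    rw [MulAut.conj_apply, hg] at h2
    rwa [← Subgroup.orderOf_coe, h2] at h1
  -- the index is at least six
  have hindex : 6 ≤ K.index := by
    by_contra hlt
    haveI : IsSimpleGroup A6 := alternatingGroup.isSimpleGroup (by simp)
    rcases IsSimpleGroup.eq_bot_or_eq_top_of_normal _ K.normalCore_normal with h | h
    · have hinj : Function.Injective (MulAction.toPermHom A6 (A6 ⧸ K)) := by
        rw [← MonoidHom.ker_eq_bot_iff, ← Subgroup.normalCore_eq_ker, h]
      have h1 := Nat.card_le_card_of_injective _ hinj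
      rw [card_A6, Nat.card_perm, ← Subgroup.index] at h1
      have h2 := Nat.factorial_le (show K.index ≤ 5 by omega)
      simp [Nat.factorial] at h2
      omega
    · exact hK (top_le_iff.1 (h ▸ K.normalCore_le))
  have h45 : Nat.card K ≠ 45 := fun h => by
    obtain ⟨g, hg⟩ := exists_fifteen h
    exact orderOf_ne_fifteen ((g : A6) : Perm (Fin 6))
      (by rw [Subgroup.orderOf_coe, Subgroup.orderOf_coe, hg])
  have hr5 : r ∣ 360 := card_A6 ▸ hdvdA
  have hr5' : r ≤ 5 := by
    rcases hr.dvd_mul.1 (show r ∣ 8 * (9 * 5) from hr5) with h | h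
    · have := Nat.le_of_dvd two_pos (hr.dvd_of_dvd_pow (show r ∣ 2 ^ 3 from h)); omega
    rcases hr.dvd_mul.1 h with h | h
    · have := Nat.le_of_dvd (by norm_num) (hr.dvd_of_dvd_pow (show r ∣ 3 ^ 2 from h)); omega
    · exact Nat.le_of_dvd (by norm_num) h
  by_cases h5 : r = 5
  · refine hcauchy fun h => ?_
    subst h5
    obtain ⟨u, hu⟩ := hrd
    obtain ⟨v, hv⟩ := h
    rw [hu, hv] at hcard
    have : 5 * (v * u) = 72 := by linarith
    omega
  have hr3 : r ≤ 3 := by
    by_contra h
    obtain rfl : r = 4 := by omega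
    norm_num at hr
  have h5d : ¬ 5 ∣ K.index := fun h => by
    have := hmax 5 Nat.prime_five h
    omega
  have h5K : 5 ∣ Nat.card K :=
    (Nat.prime_five.dvd_mul.1 (hcard ▸ (by norm_num : 5 ∣ 360))).resolve_right h5d
  obtain ⟨u, hu⟩ := h5K
  have hu0 : 5 * u * K.index = 360 := hu ▸ hcard
  have hule : u ≤ 12 := by
    have := Nat.mul_le_mul_left (5 * u) hindex
    omega
  -- the index is one of a short list
  by_cases h2 : r = 2
  · exfalso
    subst h2
    have h3d : ¬ 3 ∣ K.index := fun h => by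
      have := hmax 3 Nat.prime_three h
      omega
    interval_cases u <;> omega
  obtain rfl : r = 3 := by have := hr.two_le; omega
  by_cases h3K : 3 ∣ Nat.card K
  swap
  · exact hcauchy h3K
  have h9 : ¬ 9 ∣ Nat.card K := fun h => by
    rw [hu] at h h45
    interval_cases u <;> omega
  -- both classes of elements of order three cannot meet `K`
  have hx : (Perm.IsThreeCycle (swap (0 : Fin 6) 1 * swap 0 2)) :=
    Perm.isThreeCycle_swap_mul_swap_same (by decide) (by decide) (by decide)
  set a : A6 := ⟨_, hx.mem_alternatingGroup⟩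
  set b : A6 := ⟨dbl, dbl_mem⟩ with hbdef
  have ha : orderOf a = 3 := by rw [← Subgroup.orderOf_coe]; exact hx.orderOf
  have hb : orderOf b = 3 := orderOf_eq_prime (Subtype.ext dbl_pow_three) fun h => dbl_ne_one (congrArg Subtype.val h)
  by_contra! hall
  obtain ⟨t, ht⟩ := hall a ha
  obtain ⟨t', ht'⟩ := hall b hb
  set a' : K := ⟨_, ht⟩
  set b' : K := ⟨_, ht'⟩
  have ha' : orderOf a' = 3 := by
    rw [← Subgroup.orderOf_coe, ← ha]
    exact MulEquiv.orderOf_eq (MulAut.conj t) a
  have hb' : orderOf b' = 3 := by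
    rw [← Subgroup.orderOf_coe, ← hb]
    exact MulEquiv.orderOf_eq (MulAut.conj t') b
  have hzp : ∀ z : K, orderOf z = 3 → Nat.card (Subgroup.zpowers z) = 3 ^ (Nat.card K).factorization 3 := by
    intro z hz
    rw [Nat.card_zpowers, hz]
    conv_lhs => rw [← pow_one 3]
    congr 1
    refine (le_antisymm ?_ ((Nat.prime_three.pow_dvd_iff_le_factorization Nat.card_pos.ne').1
      (by rwa [pow_one]))).symm
    by_contra h
    exact h9 ((pow_dvd_pow 3 (show 2 ≤ _ by omega)).trans (Nat.ordProj_dvd _ 3))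
  let P : Sylow 3 K := Sylow.ofCard _ (hzp a' ha')
  let Q : Sylow 3 K := Sylow.ofCard _ (hzp b' hb')
  obtain ⟨k, hk⟩ := MulAction.exists_smul_eq K P Q
  have hmem : k * a' * k⁻¹ ∈ Subgroup.zpowers b' := by
    have h1 : k * a' * k⁻¹ ∈ (Q : Subgroup K) := by
      rw [← hk]
      exact ⟨a', Subgroup.mem_zpowers a', rfl⟩
    exact h1
  obtain ⟨j, hj⟩ := Subgroup.mem_zpowers_iff.1 hmem
  -- compare cycle types
  have hty : ∀ s : A6, ((s * a * s⁻¹ : A6) : Perm (Fin 6)).cycleType = {3} := fun s => by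
    rw [Subgroup.coe_mul, Subgroup.coe_mul, InvMemClass.coe_inv, Perm.cycleType_conj]
    exact hx
  have h1 : (((k * a' * k⁻¹ : K) : A6) : Perm (Fin 6)).cycleType = {3} := by
    rw [show ((k * a' * k⁻¹ : K) : A6) = ((k : A6) * t) * a * ((k : A6) * t)⁻¹ by simp [a', mul_assoc]]
    exact hty _
  have h2 : ∀ n : ℕ, (((b' ^ n : K) : A6) : Perm (Fin 6)).cycleType ≠ {3} := fun n => by
    have e1 : ((b' ^ n : K) : A6) = t' * b ^ n * t'⁻¹ := by
      rw [SubmonoidClass.coe_pow]; exact conj_pow
    rw [e1, Subgroup.coe_mul, Subgroup.coe_mul, InvMemClass.coe_inv, Perm.cycleType_conj,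
      SubmonoidClass.coe_pow]
    exact dbl_pow_cycleType n
  obtain ⟨n, hn⟩ := (mem_powers_iff_mem_zpowers.2 ⟨j, rfl⟩ : b' ^ j ∈ Submonoid.powers b')
  exact h2 n ((show b' ^ n = k * a' * k⁻¹ from hn.trans hj) ▸ h1)

end CfsgLib.DegreeSix
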