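import Mathlib

/-!
# Permutations of prime order fixing a partition into equal parts

A permutation of prime order `r` with `t` cycles of length `r` on `a * b` points fixes a partition
into `b` parts of size `a` if and only if `Fits a b r t`.
-/

set_option autoImplicit false

namespace CfsgLib.UniformPartition

open Equiv

/-- Some number `s` of orbits of parts can absorb `t` cycles. -/
def Fits (a b r t : ℕ) : Prop :=
  ∃ s, r * s ≤ b ∧ a * s ≤ t ∧ t + r * s * (a / r) ≤ a * s + b * (a / r)

theorem dvd_support {α : Type*} [Fintype α] [DecidableEq α] {r : ℕ} (hr : r.Prime) {g : Perm α}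
    (h : g ^ r = 1) : r ∣ g.support.card := by
  haveI := Fact.mk hr
  rw [← Perm.sum_cycleType, Perm.cycleType_of_pow_prime_eq_one h, Multiset.sum_replicate, smul_eq_mul]
  exact dvd_mul_left r _

/-- A permutation of exponent `r` moving `r * j` points. -/
theorem exists_perm {n r j : ℕ} (hr : 2 ≤ r) (hjn : r * j ≤ n) :
    ∃ g : Perm (Fin n), g ^ r = 1 ∧ g.support.card = r * j := by
  obtain ⟨m, rfl⟩ : ∃ m, r = m + 2 := ⟨r - 2, by omega⟩
  let base : Perm (Fin j × Fin (m + 2) ⊕ Fin (n - (m + 2) * j)) :=
    Equiv.sumCongr (Equiv.prodCongr (Equiv.refl _) (finRotate (m + 2))) (Equiv.refl _)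
  have hrot : finRotate (m + 2) ^ (m + 2) = 1 := by
    have h := pow_orderOf_eq_one (finRotate (m + 2))
    rwa [Perm.IsCycle.orderOf isCycle_finRotate, support_finRotate, Finset.card_univ,
      Fintype.card_fin] at h
  have hpow : ∀ (k : ℕ) x, (base ^ k) x =
      Sum.map (fun p => (p.1, (finRotate (m + 2) ^ k) p.2)) id x := by
    intro k
    induction k with
    | zero => intro x; cases x <;> rfl
    | succ k ih =>
      intro x
      rw [pow_succ', Perm.mul_apply, ih]
      cases x with
      | inl p => simp only [base, Sum.map_inl, Equiv.sumCongr_apply, pow_succ', Perm.mul_apply]; rfl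
      | inr p => rfl
  let e : (Fin j × Fin (m + 2) ⊕ Fin (n - (m + 2) * j)) ≃ Fin n :=
    ((Equiv.sumCongr finProdFinEquiv (Equiv.refl _)).trans finSumFinEquiv).trans
      (finCongr (by rw [mul_comm j]; omega))
  refine ⟨e.permCongr base, ?_, ?_⟩
  · rw [← Equiv.permCongrHom_coe, ← map_pow, ← map_one e.permCongrHom]
    congr 1
    refine Equiv.ext fun x => ?_
    rw [hpow, hrot]
    cases x <;> rfl
  · have h : (e.permCongr base).support = (Finset.univ.map Function.Embedding.inl).map e.toEmbedding := by
      ext x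
      rw [Perm.mem_support, Equiv.permCongr_apply, ne_eq, Finset.mem_map_equiv]
      conv_lhs => arg 1; rhs; rw [← e.apply_symm_apply x]
      rw [e.injective.eq_iff]
      cases e.symm x with
      | inl p =>
        simp only [base, Equiv.sumCongr_apply, Sum.map_inl, Sum.inl.injEq, Finset.mem_map,
          Finset.mem_univ, true_and, Function.Embedding.inl_apply, exists_eq, iff_true]
        intro h
        have h2 : finRotate (m + 2) p.2 = p.2 := congrArg Prod.snd h
        have : p.2 ∈ (finRotate (m + 2)).support := by rw [support_finRotate]; exact Finset.mem_univ _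
        exact Perm.mem_support.1 this h2
      | inr p =>
        simp [base]
    rw [h, Finset.card_map, Finset.card_map, Finset.card_univ, Fintype.card_prod, Fintype.card_fin,
      Fintype.card_fin, mul_comm]

theorem exists_sum_eq {ι : Type*} [DecidableEq ι] (A : ℕ) :
    ∀ (S : Finset ι) (m : ℕ), m ≤ A * S.card → ∃ j : ι → ℕ, (∀ i, j i ≤ A) ∧ ∑ i ∈ S, j i = m := by
  intro S
  induction S using Finset.induction_on with
  | empty => exact fun m hm => ⟨fun _ => 0, fun _ => Nat.zero_le _, by simpa [eq_comm] using hm⟩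
  | insert x S hx ih =>
    intro m hm
    rw [Finset.card_insert_of_notMem hx, Nat.mul_succ] at hm
    obtain ⟨j, hj, hs⟩ := ih (m - min A m) (by omega)
    refine ⟨Function.update j x (min A m), fun i => ?_, ?_⟩
    · rw [Function.update_apply]
      split_ifs with h
      · exact min_le_left _ _
      · exact hj i
    · rw [Finset.sum_insert hx, Function.update_self, Finset.sum_congr rfl fun i hi =>
        Function.update_of_ne (ne_of_mem_of_not_mem hi hx) _ _, hs]
      omega

variable {a b r : ℕ}

/-- Sufficiency. -/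
theorem exists_partition (hr : r.Prime) (σ : Perm (Fin (a * b))) (hσ : orderOf σ = r) {t : ℕ}
    (ht : σ.support.card = r * t) (hfit : Fits a b r t) :
    ∃ f : Fin (a * b) → Fin b, (∀ j, Nat.card {x // f x = j} = a) ∧
      ∃ π : Perm (Fin b), ∀ x, f (σ x) = π (f x) := by
  classical
  haveI := Fact.mk hr
  obtain ⟨s, hs1, hs2, hs3⟩ := hfit
  obtain ⟨π, hπr, hπc⟩ := exists_perm (n := b) hr.two_le hs1
  obtain ⟨j, hjA, hjs⟩ := exists_sum_eq (a / r) (π.supportᶜ) (t - a * s) (by
    have h : r * s * (a / r) + (b - r * s) * (a / r) = b * (a / r) := by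
      rw [← Nat.add_mul, Nat.add_sub_cancel' hs1]
    rw [Finset.card_compl, hπc, Fintype.card_fin, mul_comm (a / r)]
    omega)
  have hjle : ∀ i, r * j i ≤ a := fun i =>
    (Nat.mul_le_mul_left r (hjA i)).trans (Nat.mul_div_le a r)
  choose h hhr hhc using fun i => exists_perm (n := a) hr.two_le (hjle i)
  let g : Fin b → Perm (Fin a) := fun i => if π i = i then h i else 1
  let τ : Perm (Fin b × Fin a) := (Equiv.prodCongrRight g).trans (Equiv.prodCongr π (Equiv.refl _))
  have hτ : ∀ i x, τ (i, x) = (π i, g i x) := fun i x => rfl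
  have hτpow : ∀ (m : ℕ) i x, (τ ^ m) (i, x) = ((π ^ m) i, (g i ^ m) x) := by
    intro m
    induction m with
    | zero => intros; rfl
    | succ m ih =>
      intro i x
      rw [pow_succ, Perm.mul_apply, hτ, ih, pow_succ, pow_succ, Perm.mul_apply, Perm.mul_apply]
      by_cases hi : π i = i
      · rw [hi]
      · have h1 : g i = 1 := if_neg hi
        have h2 : g (π i) = 1 := if_neg fun h => hi (π.injective h)
        rw [h1, h2]
  have hgr : ∀ i, g i ^ r = 1 := fun i => by
    change (if π i = i then h i else 1) ^ r = 1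
    split_ifs
    · exact hhr i
    · exact one_pow r
  have hτr : τ ^ r = 1 := Equiv.ext fun ⟨i, x⟩ => by rw [hτpow, hπr, hgr]; rfl
  have hτc : τ.support.card = r * t := by
    rw [Finset.card_eq_sum_card_fiberwise (f := Prod.fst) (t := Finset.univ) fun _ _ => Finset.mem_univ _]
    have hfib : ∀ i, (τ.support.filter fun p => p.1 = i).card = if π i = i then r * j i else a := by
      intro i
      have e : (τ.support.filter fun p => p.1 = i) =
          (Finset.univ.filter fun x => τ (i, x) ≠ (i, x)).map ⟨fun x => (i, x), fun _ _ h => (Prod.mk.inj h).2⟩ := by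
        ext ⟨i', x⟩
        rw [Finset.mem_filter, Perm.mem_support, Finset.mem_map]
        constructor
        · rintro ⟨hne, h⟩
          change i' = i at h
          subst h
          exact ⟨x, Finset.mem_filter.2 ⟨Finset.mem_univ _, hne⟩, rfl⟩
        · rintro ⟨y, hy, h⟩
          rw [← h]
          exact ⟨(Finset.mem_filter.1 hy).2, rfl⟩
      rw [e, Finset.card_map]
      split_ifs with hi
      · rw [← hhc i]
        congr 1
        ext x
        simp [hτ, g, hi]
      · rw [Finset.filter_true_of_mem fun x _ => ?_, Finset.card_univ, Fintype.card_fin]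
        simp [hτ, hi]
    rw [Finset.sum_congr rfl fun i _ => hfib i, Finset.sum_ite, Finset.sum_const, smul_eq_mul,
      ← Finset.mul_sum]
    have e1 : (Finset.univ.filter fun i => π i = i) = π.supportᶜ := by ext i; simp
    have e2 : (Finset.univ.filter fun i => ¬π i = i) = π.support := by ext i; simp
    rw [e1, e2, hjs, hπc, mul_assoc, mul_comm s a, ← mul_add, Nat.sub_add_cancel hs2]
  let e : Fin (a * b) ≃ Fin b × Fin a := (finCongr (mul_comm a b)).trans finProdFinEquiv.symm
  set τ' : Perm (Fin (a * b)) := e.symm.permCongr τ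
  have hτ'r : τ' ^ r = 1 := by
    change (e.symm.permCongr τ) ^ r = 1
    rw [← Equiv.permCongrHom_coe, ← map_pow, hτr, map_one]
  have hτ'c : τ'.support.card = r * t := by
    rw [← hτc, ← Finset.card_map e.symm.toEmbedding]
    congr 1
    ext x
    rw [Perm.mem_support, Finset.mem_map_equiv, Perm.mem_support]
    exact not_congr ((e.symm.injective.eq_iff' (e.symm_apply_apply x)).trans Iff.rfl)
  have htype : ∀ u : Perm (Fin (a * b)), u ^ r = 1 → u.support.card = r * t →
      u.cycleType = Multiset.replicate t r := fun u hu hc => by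
    rw [Perm.cycleType_of_pow_prime_eq_one hu]
    congr 1
    have h1 := Perm.sum_cycleType u
    rw [Perm.cycleType_of_pow_prime_eq_one hu, Multiset.sum_replicate, smul_eq_mul, hc, mul_comm] at h1
    exact Nat.eq_of_mul_eq_mul_left hr.pos h1
  obtain ⟨c, hc⟩ := isConj_iff.1 (Perm.isConj_iff_cycleType_eq.2
    ((htype τ' hτ'r hτ'c).trans (htype σ (hσ ▸ pow_orderOf_eq_one σ) ht).symm))
  refine ⟨fun x => (e (c.symm x)).1, fun i => ?_, π, fun x => ?_⟩
  · refine (Nat.card_congr ((c.symm.trans e).subtypeEquiv (q := fun p => p.1 = i) fun x => Iff.rfl)).trans ?_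
    rw [Nat.card_congr (β := Fin a) ⟨fun p => p.1.2, fun x => ⟨(i, x), rfl⟩,
      fun p => Subtype.ext (Prod.ext p.2.symm rfl), fun x => rfl⟩, Nat.card_fin]
  · rw [← hc]
    have h1 : c.symm ((c * τ' * c⁻¹) x) = τ' (c.symm x) := by
      simp [Perm.mul_apply, Equiv.Perm.inv_def]
    simp only [h1, τ', Equiv.permCongr_apply, Equiv.symm_symm, Equiv.apply_symm_apply]
    rfl

/-- Necessity. -/
theorem fits_of_partition (hr : r.Prime) (ha : 0 < a) (σ : Perm (Fin (a * b))) (hσ : orderOf σ = r)
    {t : ℕ} (ht : σ.support.card = r * t) (f : Fin (a * b) → Fin b)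
    (hf : ∀ j, Nat.card {x // f x = j} = a) (π : Perm (Fin b)) (hπ : ∀ x, f (σ x) = π (f x)) :
    Fits a b r t := by
  classical
  have hfc : ∀ j, (Finset.univ.filter fun x => f x = j).card = a := fun j => by
    refine Eq.trans ?_ (hf j)
    rw [Nat.card_eq_fintype_card, Fintype.card_subtype]
  have hsurj : Function.Surjective f := fun j => by
    obtain ⟨x, hx⟩ := Finset.card_pos.1 ((hfc j).symm ▸ ha)
    exact ⟨x, (Finset.mem_filter.1 hx).2⟩
  have hσr : σ ^ r = 1 := hσ ▸ pow_orderOf_eq_one σ
  have hpow : ∀ (m : ℕ) x, f ((σ ^ m) x) = (π ^ m) (f x) := by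
    intro m
    induction m with
    | zero => intro x; rfl
    | succ m ih => intro x; rw [pow_succ, pow_succ, Perm.mul_apply, Perm.mul_apply, ih, hπ]
  have hπr : π ^ r = 1 := Equiv.ext fun j => by
    obtain ⟨x, rfl⟩ := hsurj j
    rw [← hpow, hσr]
    rfl
  obtain ⟨s, hs⟩ := dvd_support hr hπr
  have hmov : ∀ i ∈ π.support, (σ.support.filter fun x => f x = i).card = a := fun i hi => by
    refine Eq.trans ?_ (hfc i)
    congr 1
    ext x
    simp only [Finset.mem_filter, Perm.mem_support, Finset.mem_univ, true_and]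
    refine ⟨fun h => h.2, fun h => ⟨fun hx => Perm.mem_support.1 hi ?_, h⟩⟩
    rw [← h, ← hπ, hx]
  have hfix : ∀ i ∈ π.supportᶜ, (σ.support.filter fun x => f x = i).card ≤ r * (a / r) := fun i hi => by
    rw [Finset.mem_compl, Perm.notMem_support] at hi
    have hp : ∀ x, f (σ x) = i ↔ f x = i := fun x =>
      ⟨fun h => π.injective (by rw [← hπ, h, hi]), fun h => by rw [hπ, h, hi]⟩
    let u : Perm {x // f x = i} := σ.subtypePerm hp
    have hur : u ^ r = 1 := by
      rw [Perm.subtypePerm_pow]
      refine Equiv.ext fun x => Subtype.ext ?_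
      simp [hσr]
    have hcard : (σ.support.filter fun x => f x = i).card = u.support.card := by
      rw [← Finset.card_map (Function.Embedding.subtype _) (s := u.support)]
      congr 1
      ext x
      simp [u, and_comm]
    rw [hcard]
    obtain ⟨m, hm⟩ := dvd_support hr hur
    have hle : u.support.card ≤ a :=
      (Finset.card_le_univ _).trans_eq (by rw [Fintype.card_subtype, hfc])
    rw [hm] at hle ⊢
    exact Nat.mul_le_mul_left r ((Nat.le_div_iff_mul_le hr.pos).2 (by rw [mul_comm]; exact hle))
  have hsum : σ.support.card = ∑ i, (σ.support.filter fun x => f x = i).card :=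
    Finset.card_eq_sum_card_fiberwise fun _ _ => Finset.mem_univ _
  rw [← Finset.sum_add_sum_compl π.support, Finset.sum_congr rfl hmov, Finset.sum_const, smul_eq_mul,
    hs, ht] at hsum
  have hub := Finset.sum_le_card_nsmul _ _ _ hfix
  rw [Finset.card_compl, hs, Fintype.card_fin, smul_eq_mul] at hub
  have hsb : r * s ≤ b := hs ▸ (Finset.card_le_univ _).trans_eq (Fintype.card_fin b)
  refine ⟨s, hsb, Nat.le_of_mul_le_mul_left ?_ hr.pos, Nat.le_of_mul_le_mul_left ?_ hr.pos⟩
  · calc r * (a * s) = r * s * a := by ring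
      _ ≤ r * t := by omega
  · have h : (b - r * s) * (r * (a / r)) + r * s * (r * (a / r)) = b * (r * (a / r)) := by
      rw [← Nat.add_mul, Nat.sub_add_cancel hsb]
    calc r * (t + r * s * (a / r)) = r * t + r * s * (r * (a / r)) := by ring
      _ ≤ r * s * a + b * (r * (a / r)) := by omega
      _ = r * (a * s + b * (a / r)) := by ring

end CfsgLib.UniformPartition
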